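import Groth.Agent.SmoothStrat.Stage
import Groth.Agent.LimLib.StalkSystem
import Groth.Agent.S7632
import Groth.Agent.GrpScheme.HomFlat
import Groth.Prelude.Def_Mor2

/-!
# Smooth stratification near a generic point of a reduced scheme
-/

set_option autoImplicit false
set_option backward.isDefEq.respectTransparency false
set_option linter.style.haveILetI false
universe u

open CategoryTheory CategoryTheory.Limits AlgebraicGeometry TopologicalSpace

namespace Groth.Agent.SmoothStrat

/-- A generic point of an irreducible component has no proper generalization. -/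
lemma isMaxGen_of_isGenericPoint {S : Scheme.{u}} {η : S} {W : Set S}
    (hW : W ∈ irreducibleComponents ↥S) (hη : IsGenericPoint η W) :
    GrpScheme.Component.IsMaxGen η := fun w hw => by
  have hsub : W ⊆ closure {w} := by
    rw [← hη.def]
    exact closure_minimal (Set.singleton_subset_iff.mpr (specializes_iff_mem_closure.mp hw)) isClosed_closure
  have hWe : closure {w} = W := Set.Subset.antisymm (hW.2 isIrreducible_singleton.closure hsub) hsub
  exact (hη.eq (show IsGenericPoint w W from hWe)).symm

/-- A smooth stratification of a scheme of finite type over a field, after a finite purely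
inseparable extension. -/
theorem exists_over_field {Z : Scheme.{u}} (k : Type u) [Field k] (h : Z ⟶ Spec (CommRingCat.of k))
    [LocallyOfFiniteType h] [QuasiCompact h] :
    ∃ (T : Scheme.{u}) (v : T ⟶ Spec (CommRingCat.of k)), IsFinite v ∧ Flat v ∧
      LocallyOfFinitePresentation v ∧ Surjective v ∧ UniversallyInjective v ∧
      ∃ (t : ℕ) (J : Fin (t + 1) → (pullback h v).IdealSheafData),
        IsSmoothStrat (pullback.snd h v) J := by
  letI : Z.Over (Spec (CommRingCat.of k)) := ⟨h⟩
  haveI : LocallyOfFiniteType (Z ↘ Spec (CommRingCat.of k)) := ‹_›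
  haveI : QuasiCompact (Z ↘ Spec (CommRingCat.of k)) := ‹_›
  obtain ⟨k', _, _, hfin, hpi, t, I, hm, h0, hl, hs⟩ := Groth.Agent.S7632.result k Z
  let v := Spec.map (CommRingCat.ofHom (algebraMap k k'))
  have hv₁ : IsFinite v := (IsFinite.SpecMap_iff _).mpr (RingHom.finite_algebraMap.mpr hfin)
  have hv₂ : Flat v := by
    rw [HasRingHomProperty.Spec_iff (P := @Flat)]
    exact RingHom.flat_algebraMap_iff.mpr inferInstance
  have hv₃ : LocallyOfFinitePresentation v := by
    rw [LocallyOfFinitePresentation.SpecMap_iff]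
    exact RingHom.finitePresentation_algebraMap.mpr (Algebra.FinitePresentation.of_finiteType.mp inferInstance)
  refine ⟨_, v, hv₁, hv₂, hv₃, Groth.Agent.FBase.BC.surjective_specMap,
    Groth.Agent.S7632.universallyInjective_specMap k k', t, I, hm, hl, ?_, fun i O => ?_, hs⟩
  · show ((I 0).support : Set ↑(Curv2.bc k Z k')) = Set.univ
    rw [h0, Scheme.IdealSheafData.coe_support_vanishingIdeal]
    rfl
  · have : LocallyOfFiniteType (Curv2.bcSnd k Z k') :=
      inferInstanceAs (LocallyOfFiniteType (pullback.snd h v))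
    have : IsLocallyNoetherian (Curv2.bc k Z k') :=
      LocallyOfFiniteType.isLocallyNoetherian (Curv2.bcSnd k Z k')
    have : IsNoetherianRing Γ(Curv2.bc k Z k', O.1) := IsLocallyNoetherian.component_noetherian O
    exact (isNoetherianRing_iff_ideal_fg _).mp this _

/-- The smooth stratification near a generic point. -/
theorem exists_near_generic {X S : Scheme.{u}} (f : X ⟶ S) [LocallyOfFinitePresentation f]
    [QuasiCompact f] [QuasiSeparated f] [IsReduced S] (η : S) (W : Set ↥S)
    (hW : W ∈ irreducibleComponents ↥S) (hη : IsGenericPoint η W) :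
    ∃ (U : S.Opens) (V : Scheme.{u}) (v : V ⟶ (U : Scheme.{u})), η ∈ U ∧ Surjective v ∧
      UniversallyInjective v ∧ Mor2.IsFinLocFree v ∧
      ∃ (t : ℕ) (J : Fin (t + 1) → (pullback f (v ≫ U.ι)).IdealSheafData),
        IsSmoothStrat (pullback.snd f (v ≫ U.ι)) J := by
  let k : Type u := S.presheaf.stalk η
  letI : Field k := (GrpScheme.HomFlat.isField_stalk (isMaxGen_of_isGenericPoint hW hη)).toField
  obtain ⟨P⟩ := LimLib.nonempty_stalkSystem S η
  obtain ⟨j₀⟩ : Nonempty P.Jᵒᵖ := ⟨.op (Classical.arbitrary P.J)⟩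
  obtain ⟨T', v, _, _, _, _, _, t, J', hJ'⟩ :=
    exists_over_field k (pullback.snd f (show Spec (CommRingCat.of k) ⟶ S from S.fromSpecStalk η))
  let c : Cone P.D := Cone.mk (Spec (CommRingCat.of k)) P.π
  have : CompactSpace c.pt := inferInstanceAs (CompactSpace ↥(Spec (CommRingCat.of k)))
  have : QuasiSeparatedSpace c.pt := inferInstanceAs (QuasiSeparatedSpace ↥(Spec (CommRingCat.of k)))
  have : CompactSpace ↥(pullback f (P.ι.app j₀)) :=
    QuasiCompact.compactSpace_of_compactSpace (pullback.snd f (P.ι.app j₀))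
  have : QuasiSeparatedSpace ↥(pullback f (P.ι.app j₀)) :=
    quasiSeparatedSpace_of_quasiSeparated (pullback.snd f (P.ι.app j₀))
  let i₀ : Spec (CommRingCat.of k) ⟶ S := S.fromSpecStalk η
  let a : pullback f i₀ ⟶ pullback f (P.ι.app j₀) :=
    pullback.lift (pullback.fst _ _) (pullback.snd _ _ ≫ c.π.app j₀)
      (by rw [pullback.condition, Category.assoc]; exact congrArg (_ ≫ ·) (P.fac j₀).symm)
  have ha : IsPullback a (pullback.snd f i₀) (pullback.snd f (P.ι.app j₀)) (c.π.app j₀) := by
    refine IsPullback.of_right ?_ (pullback.lift_snd _ _ _) (IsPullback.of_hasPullback f (P.ι.app j₀))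
    rw [pullback.lift_fst, show c.π.app j₀ ≫ P.ι.app j₀ = i₀ from P.fac j₀]
    exact IsPullback.of_hasPullback f i₀
  obtain ⟨j, φ, V, w, _, _, _, hw₄, hw₅, J, hJ⟩ :=
    exists_stage (c := c) P.isLimit.some (pullback.snd f (P.ι.app j₀)) v
      ((IsPullback.of_hasPullback (pullback.snd f i₀) v).flip.paste_vert ha.flip).flip J' hJ'
  let U : S.Opens := (P.ι.app j).opensRange
  have hι : (P.ι.app j).isoOpensRange.hom ≫ U.ι = P.ι.app j := Scheme.Hom.isoOpensRange_hom_ι _
  have heq : (w ≫ P.D.map φ) ≫ P.ι.app j₀ = (w ≫ (P.ι.app j).isoOpensRange.hom) ≫ U.ι := by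
    rw [Category.assoc, Category.assoc, hι]
    exact congrArg (w ≫ ·) ((P.ι.naturality φ).trans (Category.comp_id _))
  refine ⟨U, V, w ≫ (P.ι.app j).isoOpensRange.hom, P.mem j, inferInstance,
    (MorphismProperty.cancel_right_of_respectsIso (P := @UniversallyInjective) w _).mpr hw₅,
    ⟨inferInstance, inferInstance, inferInstance⟩, t, ?_⟩
  have H : IsPullback (pullbackLeftPullbackSndIso f (P.ι.app j₀) (w ≫ P.D.map φ) ≪≫
      pullback.congrHom rfl heq).inv (pullback.snd f _) (pullback.snd _ _) (𝟙 _) :=
    IsPullback.of_horiz_isIso ⟨by simp⟩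
  exact ⟨_, hJ.comap H⟩

end Groth.Agent.SmoothStrat
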