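import Groth.Agent.SmoothStrat.Generic
import Groth.Agent.LimLib.Approx
import Groth.Agent.RedSub.Basic

/-!
# Smooth stratification over a quasi-compact and quasi-separated base
-/

set_option autoImplicit false
set_option backward.isDefEq.respectTransparency false
set_option linter.style.haveILetI false
universe u

open CategoryTheory CategoryTheory.Limits AlgebraicGeometry TopologicalSpace

namespace Groth.Agent.SmoothStrat

variable {X S X₀ S₀ : Scheme.{u}}

/-- Over the stratum of `I`, `I'` there is a finite locally free cover with a smooth stratification. -/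
def GoodEdge (f : X ⟶ S) (I I' : S.IdealSheafData) : Prop :=
  ∃ (T : Scheme.{u}) (v : T ⟶ (I.subschemeι ⁻¹ᵁ I'.support.compl).toScheme),
    Surjective v ∧ Mor2.IsFinLocFree v ∧
      ∃ (t : ℕ) (J : Fin (t + 1) → (pullback f (v ≫ stratum I I')).IdealSheafData),
        IsSmoothStrat (pullback.snd f (v ≫ stratum I I')) J

theorem GoodEdge.comap {f₀ : X₀ ⟶ S₀} {f : X ⟶ S} {q : X ⟶ X₀} {π : S ⟶ S₀}
    (H : IsPullback q f f₀ π) {I I' : S₀.IdealSheafData} (h : GoodEdge f₀ I I') :
    GoodEdge f (I.comap π) (I'.comap π) := by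
  obtain ⟨T, v, hv, ⟨_, _, _⟩, t, J, hJ⟩ := h
  obtain ⟨r, hr⟩ := isPullback_stratum π I I'
  refine ⟨pullback v r, pullback.snd v r, inferInstance, ⟨inferInstance, inferInstance, inferInstance⟩, t, ?_⟩
  let v' := pullback.snd v r
  let g' := v' ≫ stratum (I.comap π) (I'.comap π)
  have he : g' ≫ π = pullback.fst v r ≫ v ≫ stratum I I' := by
    rw [Category.assoc, ← hr.w, pullback.condition_assoc]
  have hout : IsPullback (pullback.fst f g' ≫ q) (pullback.snd f g') f₀ (g' ≫ π) :=
    (IsPullback.of_hasPullback f g').paste_horiz H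
  rw [he] at hout
  let z : pullback f g' ⟶ pullback f₀ (v ≫ stratum I I') :=
    pullback.lift (pullback.fst f g' ≫ q) (pullback.snd f g' ≫ pullback.fst v r)
      (by rw [hout.w, Category.assoc])
  have hz : IsPullback z (pullback.snd f g') (pullback.snd f₀ (v ≫ stratum I I')) (pullback.fst v r) :=
    IsPullback.of_right (by rw [pullback.lift_fst]; exact hout) (pullback.lift_snd _ _ _)
      (IsPullback.of_hasPullback _ _)
  exact ⟨_, hJ.comap hz⟩

/-- The Noetherian case, by induction on closed subsets. -/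
theorem exists_chain [IsLocallyNoetherian S₀] [CompactSpace S₀] (f₀ : X₀ ⟶ S₀)
    [LocallyOfFinitePresentation f₀] [QuasiCompact f₀] [QuasiSeparated f₀] (C : Closeds S₀) :
    ∃ (t : ℕ) (Cs : Fin (t + 1) → Closeds S₀), Antitone Cs ∧ Cs 0 = C ∧ Cs (Fin.last t) = ⊥ ∧
      ∀ i : Fin t, GoodEdge f₀ (Scheme.IdealSheafData.vanishingIdeal (Cs i.castSucc))
        (Scheme.IdealSheafData.vanishingIdeal (Cs i.succ)) := by
  haveI : AlgebraicGeometry.IsNoetherian S₀ := ⟨⟩
  induction C using WellFoundedLT.induction with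
  | _ C IH =>
  by_cases hC : C = ⊥
  · exact ⟨0, fun _ => ⊥, fun _ _ _ => le_rfl, hC.symm, rfl, fun i => i.elim0⟩
  let ι := (Scheme.IdealSheafData.vanishingIdeal C).subschemeι
  let Z := (Scheme.IdealSheafData.vanishingIdeal C).subscheme
  have hι : Set.range ι = C := RedSub.range_vanishingIdeal_subschemeι C
  have : IsReduced Z := RedSub.isReduced_vanishingIdeal C
  obtain ⟨z⟩ : Nonempty Z := by
    by_contra hne
    refine hC (SetLike.coe_injective (Set.eq_empty_of_forall_notMem fun x hx => hne ?_))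
    obtain ⟨z, -⟩ := hι.ge hx
    exact ⟨z⟩
  obtain ⟨W, hW, -⟩ : ∃ W ∈ irreducibleComponents ↥Z, z ∈ W :=
    ⟨irreducibleComponent z, irreducibleComponent_mem_irreducibleComponents z, mem_irreducibleComponent⟩
  have hηgen : IsGenericPoint (hW.1.genericPoint) W :=
    hW.1.isGenericPoint_genericPoint (isClosed_of_mem_irreducibleComponents W hW)
  obtain ⟨U, V, v, hηU, hv₁, -, hv₂, t, J, hJ⟩ :=
    exists_near_generic (pullback.snd f₀ ι) _ W hW hηgen
  let C' : Closeds S₀ := ⟨ι '' (U : Set Z)ᶜ, ι.isClosedEmbedding.isClosedMap _ U.2.isClosed_compl⟩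
  have hle : C' ≤ C := by
    rintro _ ⟨x, -, rfl⟩
    exact hι.le ⟨x, rfl⟩
  have hne : C' ≠ C := fun e => by
    obtain ⟨y, hy, hye⟩ := e.ge (hι.le ⟨_, rfl⟩ : ι (hW.1.genericPoint) ∈ C)
    exact hy (ι.isClosedEmbedding.injective hye ▸ hηU)
  have hU : U = ι ⁻¹ᵁ (Scheme.IdealSheafData.vanishingIdeal C').support.compl := by
    ext x
    show x ∈ U ↔ ι x ∉ (Scheme.IdealSheafData.vanishingIdeal C').support
    rw [← SetLike.mem_coe (p := (Scheme.IdealSheafData.vanishingIdeal C').support),
      Scheme.IdealSheafData.coe_support_vanishingIdeal]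
    constructor
    · rintro hx ⟨y, hy, hye⟩
      exact hy (ι.isClosedEmbedding.injective hye ▸ hx)
    · intro hx
      by_contra hxU
      exact hx ⟨x, hxU, rfl⟩
  have hedge : GoodEdge f₀ (Scheme.IdealSheafData.vanishingIdeal C)
      (Scheme.IdealSheafData.vanishingIdeal C') := by
    obtain ⟨_, _, _⟩ := hv₂
    refine ⟨V, v ≫ (Z.isoOfEq hU).hom, inferInstance, ⟨inferInstance, inferInstance, inferInstance⟩,
      t, ?_⟩
    have heq : (v ≫ (Z.isoOfEq hU).hom) ≫ stratum (Scheme.IdealSheafData.vanishingIdeal C)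
        (Scheme.IdealSheafData.vanishingIdeal C') = (v ≫ U.ι) ≫ ι := by
      simp only [stratum, ι, Category.assoc, Scheme.isoOfEq_hom_ι_assoc]
    have H : IsPullback (pullback.congrHom rfl heq ≪≫
        (pullbackLeftPullbackSndIso f₀ ι (v ≫ U.ι)).symm).hom (pullback.snd f₀ _)
        (pullback.snd _ _) (𝟙 _) := IsPullback.of_horiz_isIso ⟨by simp⟩
    exact ⟨_, hJ.comap H⟩
  obtain ⟨s, Cs, hanti, h0, hlast, hedges⟩ := IH C' (lt_of_le_of_ne hle hne)
  refine ⟨s + 1, Fin.cons C Cs, ?_, rfl, ?_, fun i => ?_⟩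
  · refine Fin.antitone_iff_succ_le.2 fun i => ?_
    induction i using Fin.cases with
    | zero => rw [Fin.castSucc_zero, Fin.cons_zero, Fin.cons_succ, h0]; exact hle
    | succ i => rw [Fin.castSucc_succ, Fin.cons_succ, Fin.cons_succ]; exact hanti (Fin.castSucc_le_succ i)
  · rw [← Fin.succ_last, Fin.cons_succ, hlast]
  · induction i using Fin.cases with
    | zero => rw [Fin.castSucc_zero, Fin.cons_zero, Fin.cons_succ, h0]; exact hedge
    | succ i => rw [Fin.castSucc_succ, Fin.cons_succ, Fin.cons_succ]; exact hedges i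

/-- The stratification over a quasi-compact and quasi-separated base. -/
theorem exists_global (f : X ⟶ S) [LocallyOfFinitePresentation f] [CompactSpace X]
    [QuasiSeparatedSpace X] [CompactSpace S] [QuasiSeparatedSpace S] :
    ∃ (t : ℕ) (I : Fin (t + 1) → S.IdealSheafData), Monotone I ∧ I (Fin.last t) = ⊤ ∧
      ((I 0).support : Set S) = Set.univ ∧ (∀ i, ∀ U : S.affineOpens, ((I i).ideal U).FG) ∧
      ∀ i : Fin t, GoodEdge f (I i.castSucc) (I i.succ) := by
  obtain ⟨P⟩ := LimLib.nonempty_ftSystem S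
  let c : Cone P.D := Cone.mk S P.π
  obtain ⟨i, X₀, f₀, q, _, _, _, H⟩ := LimLib.hasModel (c := c) P.isLimit.some f
  haveI : QuasiCompact f₀ := (quasiCompact_iff_compactSpace (f := f₀)).mpr inferInstance
  haveI : QuasiSeparated f₀ := (quasiSeparated_iff_quasiSeparatedSpace f₀).mpr inferInstance
  obtain ⟨t, Cs, hanti, h0, hlast, hedge⟩ := exists_chain f₀ ⊤
  refine ⟨t, fun l => (Scheme.IdealSheafData.vanishingIdeal (Cs l)).comap (c.π.app i),
    fun a b hab => Scheme.IdealSheafData.comap_mono _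
      (Scheme.IdealSheafData.vanishingIdeal_antimono fun x hx => hanti hab hx), ?_, ?_,
    fun l => LimLib.fg_comap (fun U => ?_) (c.π.app i), fun l => (hedge l).comap H⟩
  · simp only [hlast, Scheme.IdealSheafData.vanishingIdeal_bot, Scheme.IdealSheafData.comap_top]
  · rw [Scheme.IdealSheafData.support_comap, Closeds.coe_preimage, h0,
      Scheme.IdealSheafData.coe_support_vanishingIdeal]
    rfl
  · have : IsNoetherianRing Γ(P.D.obj i, U.1) := IsLocallyNoetherian.component_noetherian U
    exact (isNoetherianRing_iff_ideal_fg _).mp this _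

end Groth.Agent.SmoothStrat
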