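import Groth.Agent.LimLib.FGIdeal
import Mathlib.AlgebraicGeometry.Morphisms.Smooth

/-!
# Stratifications by ideal sheaves of finite type with smooth strata
-/

set_option autoImplicit false
set_option backward.isDefEq.respectTransparency false
universe u

open CategoryTheory CategoryTheory.Limits AlgebraicGeometry TopologicalSpace

namespace Groth.Agent.SmoothStrat

variable {X Y T T' : Scheme.{u}}

/-- The immersion of `supp I ∖ supp I'`, as an open subscheme of the subscheme of `I`. -/
noncomputable abbrev stratum (I I' : X.IdealSheafData) :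
    (I.subschemeι ⁻¹ᵁ I'.support.compl).toScheme ⟶ X :=
  (I.subschemeι ⁻¹ᵁ I'.support.compl).ι ≫ I.subschemeι

lemma range_stratum (I I' : X.IdealSheafData) :
    Set.range (stratum I I') = (I.support : Set X) \ I'.support := by
  rw [Scheme.Hom.comp_base, TopCat.coe_comp, Set.range_comp, Scheme.Opens.range_ι]
  ext z
  constructor
  · rintro ⟨w, hw, rfl⟩
    exact ⟨I.range_subschemeι.le ⟨w, rfl⟩, hw⟩
  · rintro ⟨hz, hz'⟩
    obtain ⟨w, rfl⟩ := I.range_subschemeι.ge hz
    exact ⟨w, hz', rfl⟩

/-- The formation of strata commutes with base change. -/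
theorem isPullback_stratum (g : X ⟶ Y) (I I' : Y.IdealSheafData) :
    ∃ q, IsPullback q (stratum (I.comap g) (I'.comap g)) (stratum I I') g := by
  let r := (I.comapIso g).hom ≫ pullback.snd g I.subschemeι
  have h1 : IsPullback r (I.comap g).subschemeι I.subschemeι g :=
    (IsPullback.of_hasPullback g I.subschemeι).flip.of_iso (I.comapIso g).symm (Iso.refl _) (Iso.refl _)
      (Iso.refl _) (by simp only [r, Iso.symm_hom, Iso.refl_hom, Category.comp_id, Iso.inv_hom_id_assoc])
      (by simp [← Scheme.IdealSheafData.comapIso_inv_subschemeι]) (by simp) (by simp)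
  have hV : r ⁻¹ᵁ (I.subschemeι ⁻¹ᵁ I'.support.compl) =
      (I.comap g).subschemeι ⁻¹ᵁ (I'.comap g).support.compl := by
    ext z
    show I.subschemeι (r z) ∉ I'.support ↔ (I.comap g).subschemeι z ∉ (I'.comap g).support
    rw [Scheme.IdealSheafData.support_comap, ← Scheme.Hom.comp_apply, h1.w, Scheme.Hom.comp_apply]
    rfl
  refine ⟨((I.comap g).subscheme.isoOfEq hV).inv ≫ r ∣_ _, ?_⟩
  have h2 := (isPullback_morphismRestrict r (I.subschemeι ⁻¹ᵁ I'.support.compl)).paste_vert h1
  exact h2.of_iso ((I.comap g).subscheme.isoOfEq hV) (Iso.refl _) (Iso.refl _) (Iso.refl _)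
    (by simp) (by simp) (by simp) (by simp)

/-- The complement of the zero set of an ideal of finite type is quasi-compact. -/
lemma isCompact_compl_support [CompactSpace X] (I : X.IdealSheafData)
    (hI : ∀ U, (I.ideal U).FG) : IsCompact ((I.support : Set X)ᶜ) := by
  classical
  obtain ⟨t, ht⟩ := isCompact_univ.elim_finite_subcover
    (fun U : X.affineOpens => (U.1 : Set X)) (fun U => U.1.2)
    (fun x _ => by
      obtain ⟨U, hU, hx, -⟩ := Opens.isBasis_iff_nbhd.mp X.isBasis_affineOpens (U := ⊤) (x := x) trivial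
      exact Set.mem_iUnion.mpr ⟨⟨U, hU⟩, hx⟩)
  choose s hs using hI
  have he : (I.support : Set X)ᶜ = ⋃ U ∈ t, ⋃ a ∈ s U, (X.basicOpen a : Set X) := by
    ext x
    simp only [Set.mem_compl_iff, Set.mem_iUnion, SetLike.mem_coe]
    constructor
    · intro hx
      obtain ⟨U, hU, hxU⟩ := Set.mem_iUnion₂.mp (ht (Set.mem_univ x))
      rw [Scheme.IdealSheafData.mem_support_iff_of_mem hxU, ← hs U] at hx
      change x ∉ X.zeroLocus (Ideal.span (s U : Set Γ(X, U.1)) : Set Γ(X, U.1)) at hx
      rw [Scheme.zeroLocus_span, Scheme.mem_zeroLocus_iff] at hx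
      push Not at hx
      obtain ⟨a, ha, hxa⟩ := hx
      exact ⟨U, hU, a, ha, hxa⟩
    · rintro ⟨U, -, a, ha, hxa⟩ hx
      rw [Scheme.IdealSheafData.mem_support_iff_of_mem (X.basicOpen_le a hxa),
        Scheme.mem_zeroLocus_iff] at hx
      exact hx a (hs U ▸ Submodule.subset_span ha) hxa
  rw [he]
  exact t.isCompact_biUnion fun U _ => (s U).isCompact_biUnion fun a _ => (U.2.basicOpen a).isCompact

/-- The strata are quasi-compact, for an ideal of finite type. -/
lemma compactSpace_stratum [CompactSpace X] (I : X.IdealSheafData) {I' : X.IdealSheafData}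
    (hI' : ∀ U, (I'.ideal U).FG) :
    CompactSpace (I.subschemeι ⁻¹ᵁ I'.support.compl).toScheme :=
  isCompact_iff_compactSpace.mp
    (QuasiCompact.isCompact_preimage (f := I.subschemeι) _ I'.support.compl.2
      (isCompact_compl_support I' hI'))

lemma lfp_stratum {I I' : X.IdealSheafData} (hI : ∀ U, (I.ideal U).FG) :
    LocallyOfFinitePresentation (stratum I I') := by
  have := (LimLib.lfp_subschemeι_iff I).mpr hI
  infer_instance

/-- A chain of ideals of finite type, from a thickening to the unit ideal, with smooth strata. -/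
def IsSmoothStrat (g : X ⟶ T) {t : ℕ} (J : Fin (t + 1) → X.IdealSheafData) : Prop :=
  Monotone J ∧ J (Fin.last t) = ⊤ ∧ ((J 0).support : Set X) = Set.univ ∧
    (∀ i, ∀ O : X.affineOpens, ((J i).ideal O).FG) ∧
    ∀ i : Fin t, Smooth (stratum (J i.castSucc) (J i.succ) ≫ g)

/-- Smooth stratifications pull back. -/
theorem IsSmoothStrat.comap {g : X ⟶ T} {g' : Y ⟶ T'} {q : Y ⟶ X} {h : T' ⟶ T}
    (H : IsPullback q g' g h) {t : ℕ} {J : Fin (t + 1) → X.IdealSheafData} (hJ : IsSmoothStrat g J) :
    IsSmoothStrat g' fun i => (J i).comap q := by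
  obtain ⟨hm, hl, h0, hfg, hs⟩ := hJ
  refine ⟨fun i j hij => Scheme.IdealSheafData.comap_mono _ (hm hij), by simp only [hl,
    Scheme.IdealSheafData.comap_top], ?_, fun i => LimLib.fg_comap (hfg i) q, fun i => ?_⟩
  · rw [Scheme.IdealSheafData.support_comap, Closeds.coe_preimage, h0, Set.preimage_univ]
  · obtain ⟨r, hr⟩ := isPullback_stratum q (J i.castSucc) (J i.succ)
    exact MorphismProperty.of_isPullback (P := @Smooth) (hr.paste_vert H) (hs i)

end Groth.Agent.SmoothStrat
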