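import Groth.Agent.SmoothStrat.Basic
import Groth.Agent.LimLib.Smooth
import Groth.Agent.LimLib.Model
import Groth.Agent.EGA43Lim.Basic
import Groth.Agent.FlatDescends.Basic

/-!
# Smooth stratifications descend along limits
-/

set_option autoImplicit false
set_option backward.isDefEq.respectTransparency false
set_option linter.style.haveILetI false
universe u

open CategoryTheory CategoryTheory.Limits AlgebraicGeometry TopologicalSpace

namespace Groth.Agent.SmoothStrat

variable {I : Type u} [SmallCategory I] [IsCofiltered I] {D : I ⥤ Scheme.{u}} {c : Cone D}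

lemma fg_finset_sup {X : Scheme.{u}} {ι : Type*} (s : Finset ι) (G : ι → X.IdealSheafData)
    (hG : ∀ i, ∀ U, ((G i).ideal U).FG) (U : X.affineOpens) : ((s.sup G).ideal U).FG := by
  classical
  induction s using Finset.induction with
  | empty =>
    rw [Finset.sup_empty, Scheme.IdealSheafData.ideal_bot, Pi.bot_apply]
    exact Submodule.fg_bot
  | insert a s _ ih =>
    rw [Finset.sup_insert, Scheme.IdealSheafData.ideal_sup, Pi.sup_apply]
    exact Submodule.FG.sup (hG a U) ih

lemma comap_finset_sup {X Y : Scheme.{u}} (f : X ⟶ Y) {ι : Type*} (s : Finset ι)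
    (G : ι → Y.IdealSheafData) : (s.sup G).comap f = s.sup fun i => (G i).comap f := by
  classical
  induction s using Finset.induction with
  | empty => simp
  | insert a s _ ih => rw [Finset.sup_insert, Finset.sup_insert, Scheme.IdealSheafData.comap_sup, ih]

/-- A smooth stratification over the limit comes from a stage. -/
theorem exists_descend (hc : IsLimit c) [∀ (i j : I) (f : i ⟶ j), IsAffineHom (D.map f)]
    [∀ i, CompactSpace (D.obj i)] [∀ i, QuasiSeparatedSpace (D.obj i)] {i : I}
    {X₀ : Scheme.{u}} (f₀ : X₀ ⟶ D.obj i) [LocallyOfFinitePresentation f₀] [CompactSpace X₀]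
    [QuasiSeparatedSpace X₀] {X' : Scheme.{u}} {g : X' ⟶ c.pt} {q : X' ⟶ X₀}
    (hX : IsPullback q g f₀ (c.π.app i)) {t : ℕ} (J' : Fin (t + 1) → X'.IdealSheafData)
    (hJ' : IsSmoothStrat g J') :
    ∃ (j : I) (φ : j ⟶ i) (J : Fin (t + 1) → (pullback f₀ (D.map φ)).IdealSheafData),
      IsSmoothStrat (pullback.snd f₀ (D.map φ)) J := by
  classical
  obtain ⟨hm, hl, h0, hfg, hs⟩ := hJ'
  -- the ideals come from a common stage
  have hE := LimLib.isLimitBcCone hc hX
  choose kl Gl hGl hGe using fun l => LimLib.exists_fg_descend hE (J' l) (hfg l)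
  obtain ⟨k, hk⟩ := IsCofiltered.inf_objs_exists (Finset.univ.image kl)
  let al (l : Fin (t + 1)) : k ⟶ kl l := (hk (Finset.mem_image_of_mem _ (Finset.mem_univ l))).some
  let Xk := pullback f₀ (D.map k.hom)
  let qk : X' ⟶ Xk := (LimLib.bcCone hX).π.app k
  have hqk : IsPullback qk g (pullback.snd f₀ (D.map k.hom)) (c.π.app k.left) :=
    LimLib.isPullback_bcCone hX k
  let G (l : Fin (t + 1)) : Xk.IdealSheafData := (Gl l).comap ((LimLib.bcDiag D i f₀).map (al l))
  have hG : ∀ l U, ((G l).ideal U).FG := fun l U => LimLib.fg_comap (hGl l) _ U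
  have hGe' : ∀ l, (G l).comap qk = J' l := fun l => by
    show ((Gl l).comap _).comap _ = _
    rw [← Scheme.IdealSheafData.comap_comp]
    exact (congrArg (Gl l).comap ((LimLib.bcCone hX).w (al l))).trans (hGe l)
  let J : Fin (t + 1) → Xk.IdealSheafData := fun l =>
    if l = Fin.last t then ⊤ else (Finset.univ.filter (· ≤ l)).sup G
  have hJ : ∀ l U, ((J l).ideal U).FG := fun l U => by
    simp only [J]
    split_ifs
    · rw [Scheme.IdealSheafData.ideal_top, Pi.top_apply]
      exact ⟨{1}, by simp⟩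
    · exact fg_finset_sup _ G hG U
  have hJm : Monotone J := fun l l' hll' => by
    simp only [J]
    split_ifs with h h'
    · exact le_rfl
    · exact absurd (le_antisymm (Fin.le_last l') (h ▸ hll')) h'
    · exact le_top
    · exact Finset.sup_mono fun x hx =>
        Finset.mem_filter.mpr ⟨Finset.mem_univ _, (Finset.mem_filter.mp hx).2.trans hll'⟩
  have hJl : J (Fin.last t) = ⊤ := if_pos rfl
  have hJe : ∀ l, (J l).comap qk = J' l := fun l => by
    simp only [J]
    split_ifs with h
    · rw [Scheme.IdealSheafData.comap_top, h, hl]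
    · rw [comap_finset_sup]
      refine le_antisymm (Finset.sup_le fun x hx => (hGe' x).le.trans (hm (Finset.mem_filter.mp hx).2)) ?_
      exact (hGe' l).ge.trans
        (Finset.le_sup (f := fun x => (G x).comap qk)
          (Finset.mem_filter.mpr ⟨Finset.mem_univ _, le_rfl⟩))
  -- the first ideal becomes a thickening
  have : CompactSpace Xk := QuasiCompact.compactSpace_of_compactSpace (pullback.fst f₀ (D.map k.hom))
  have : QuasiSeparatedSpace Xk := quasiSeparatedSpace_of_quasiSeparated (pullback.fst f₀ (D.map k.hom))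
  have := (LimLib.lfp_subschemeι_iff (J 0)).mpr (hJ 0)
  have hsq : IsPullback (((J 0).comapIso qk).hom ≫ pullback.snd qk (J 0).subschemeι)
      ((J 0).comap qk).subschemeι (J 0).subschemeι qk :=
    (IsPullback.of_hasPullback qk (J 0).subschemeι).flip.of_iso ((J 0).comapIso qk).symm (Iso.refl _)
      (Iso.refl _) (Iso.refl _)
      (by simp only [Iso.symm_hom, Iso.refl_hom, Category.comp_id, Iso.inv_hom_id_assoc])
      (by simp [← Scheme.IdealSheafData.comapIso_inv_subschemeι]) (by simp) (by simp)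
  have hsurj : Surjective ((J 0).comap qk).subschemeι := ⟨fun x => by
    show x ∈ Set.range ((J 0).comap qk).subschemeι
    rw [Scheme.IdealSheafData.range_subschemeι, hJe, h0]
    trivial⟩
  obtain ⟨k₀, ψ₀, hψ₀⟩ := EGA43Lim.descends_surjective (LimLib.bcDiag D i f₀) (LimLib.bcCone hX) hE
    (fun _ _ _ => inferInstance) (fun _ => inferInstance) (fun _ => inferInstance) k
    (J 0).subscheme (J 0).subschemeι
    (QuasiCompact.compactSpace_of_compactSpace (J 0).subschemeι)
    (quasiSeparatedSpace_of_quasiSeparated (J 0).subschemeι) inferInstance _ _ _ hsq hsurj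
  -- the strata become smooth
  have hstr : ∀ l : Fin t, ∃ (j : I) (ψ : j ⟶ k.left), Smooth (pullback.snd
      (stratum (J l.castSucc) (J l.succ) ≫ pullback.snd f₀ (D.map k.hom)) (D.map ψ)) := by
    intro l
    obtain ⟨r, hr⟩ := isPullback_stratum qk (J l.castSucc) (J l.succ)
    have := compactSpace_stratum (J l.castSucc) (hJ l.succ)
    have := lfp_stratum (I' := J l.succ) (hJ l.castSucc)
    refine LimLib.descends_smooth D c hc (fun _ _ _ => inferInstance) (fun _ => inferInstance)
      (fun _ => inferInstance) k.left _ _ inferInstance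
      (quasiSeparatedSpace_of_quasiSeparated (stratum (J l.castSucc) (J l.succ))) inferInstance
      _ _ _ (hr.paste_vert hqk) ?_
    rw [hJe, hJe]
    exact hs l
  choose jl ψl hψl using hstr
  obtain ⟨m, ψ, βl, hβ⟩ := IsCofiltered.wideCospan
    (fun o : Option (Fin t) => Option.casesOn (motive := fun o => (o.elim k₀.left jl) ⟶ k.left) o
      ψ₀.left ψl)
  let φm : m ⟶ i := ψ ≫ k.hom
  let qm : pullback f₀ (D.map φm) ⟶ Xk :=
    pullback.lift (pullback.fst _ _) (pullback.snd _ _ ≫ D.map ψ)
      (by rw [pullback.condition, Category.assoc, ← D.map_comp])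
  have hqm : IsPullback qm (pullback.snd f₀ (D.map φm)) (pullback.snd f₀ (D.map k.hom)) (D.map ψ) := by
    refine IsPullback.of_right ?_ (pullback.lift_snd _ _ _) (IsPullback.of_hasPullback f₀ (D.map k.hom))
    simpa [qm, φm] using IsPullback.of_hasPullback f₀ (D.map (ψ ≫ k.hom))
  refine ⟨m, φm, fun l => (J l).comap qm, fun a b hab => Scheme.IdealSheafData.comap_mono _ (hJm hab),
    by simp only [hJl, Scheme.IdealSheafData.comap_top], ?_, fun l => LimLib.fg_comap (hJ l) qm,
    fun l => ?_⟩
  · refine Set.eq_univ_of_forall fun x => ?_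
    rw [Scheme.IdealSheafData.support_comap, Closeds.coe_preimage]
    have hβ0 : βl none ≫ ψ₀.left = ψ := hβ none
    let b : pullback f₀ (D.map φm) ⟶ (LimLib.bcDiag D i f₀).obj k₀ :=
      pullback.lift (pullback.fst _ _) (pullback.snd _ _ ≫ D.map (βl none)) (by
        rw [pullback.condition, Category.assoc, ← D.map_comp]
        congr 2
        show ψ ≫ k.hom = βl none ≫ k₀.hom
        rw [← hβ0, Category.assoc, Over.w ψ₀])
    have hb : b ≫ (LimLib.bcDiag D i f₀).map ψ₀ = qm := by
      apply pullback.hom_ext <;> simp [b, qm, ← D.map_comp, hβ0]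
    obtain ⟨z, hz⟩ := hψ₀.surj (b x)
    show qm x ∈ ((J 0).support : Set Xk)
    rw [← hb, Scheme.Hom.comp_apply, ← hz, ← Scheme.Hom.comp_apply, ← pullback.condition,
      Scheme.Hom.comp_apply, ← Scheme.IdealSheafData.range_subschemeι]
    exact ⟨_, rfl⟩
  · obtain ⟨r, hr⟩ := isPullback_stratum qm (J l.castSucc) (J l.succ)
    exact LimLib.property_of_factor (P := @Smooth) (IsPullback.of_hasPullback _ _)
      (hr.paste_vert hqm) (D.map (βl (some l))) (by rw [← D.map_comp, show βl (some l) ≫ ψl l = ψ from hβ (some l)])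
      (hψl l)

/-- A property that descends holds after base change to a finer stage. -/
lemma exists_step {P Q : MorphismProperty Scheme.{u}} (h : LimLib.Descends P Q)
    (hc : IsLimit c) [∀ (i j : I) (f : i ⟶ j), IsAffineHom (D.map f)]
    [∀ i, CompactSpace (D.obj i)] [∀ i, QuasiSeparatedSpace (D.obj i)]
    {k : I} {T₁ : Scheme.{u}} {w : T₁ ⟶ D.obj k} [CompactSpace T₁] [QuasiSeparatedSpace T₁]
    {T' : Scheme.{u}} {v : T' ⟶ c.pt} {p : T' ⟶ T₁} (hp : IsPullback p v w (c.π.app k))
    (hQ : Q w) (hP : P v) :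
    ∃ (j : I) (φ : j ⟶ k) (p' : T' ⟶ pullback w (D.map φ)),
      IsPullback p' v (pullback.snd w (D.map φ)) (c.π.app j) ∧ P (pullback.snd w (D.map φ)) := by
  obtain ⟨j, φ, hj⟩ := h D c hc (fun _ _ _ => inferInstance) (fun _ => inferInstance)
    (fun _ => inferInstance) k T₁ w inferInstance inferInstance hQ T' p v hp hP
  exact ⟨j, φ, _, LimLib.isPullback_bcCone hp (Over.mk φ), hj⟩

/-- A finite locally free, surjective, universally injective cover of the limit with a smooth
stratification comes from a stage. -/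
theorem exists_stage (hc : IsLimit c) [∀ (i j : I) (f : i ⟶ j), IsAffineHom (D.map f)]
    [∀ i, CompactSpace (D.obj i)] [∀ i, QuasiSeparatedSpace (D.obj i)]
    [CompactSpace c.pt] [QuasiSeparatedSpace c.pt] {i : I}
    {X₀ : Scheme.{u}} (f₀ : X₀ ⟶ D.obj i) [LocallyOfFinitePresentation f₀] [CompactSpace X₀]
    [QuasiSeparatedSpace X₀] {T' X' : Scheme.{u}} (v : T' ⟶ c.pt) [IsFinite v] [Flat v]
    [LocallyOfFinitePresentation v] [Surjective v] [UniversallyInjective v]
    {g : X' ⟶ T'} {q : X' ⟶ X₀} (hX : IsPullback q g f₀ (v ≫ c.π.app i)) {t : ℕ}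
    (J' : Fin (t + 1) → X'.IdealSheafData) (hJ' : IsSmoothStrat g J') :
    ∃ (j : I) (φ : j ⟶ i) (T : Scheme.{u}) (w : T ⟶ D.obj j),
      IsFinite w ∧ Flat w ∧ LocallyOfFinitePresentation w ∧ Surjective w ∧ UniversallyInjective w ∧
      ∃ J : Fin (t + 1) → (pullback f₀ (w ≫ D.map φ)).IdealSheafData,
        IsSmoothStrat (pullback.snd f₀ (w ≫ D.map φ)) J := by
  have : CompactSpace T' := QuasiCompact.compactSpace_of_compactSpace v
  have : QuasiSeparatedSpace T' := quasiSeparatedSpace_of_quasiSeparated v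
  obtain ⟨i₁, T₁, w₁, p₁, hw₁, _, _, hp₁⟩ := LimLib.hasModel hc v
  obtain ⟨k, a, b, -⟩ := IsCofilteredOrEmpty.cone_objs i i₁
  obtain ⟨hw₂, _, _, hp₂⟩ := LimLib.HasModel.at_finer hw₁ inferInstance inferInstance hp₁ b
  obtain ⟨k₃, φ₃, p₃, hp₃, hw₃⟩ := exists_step LimLib.descends_isFinite hc hp₂
    (inferInstanceAs (LocallyOfFiniteType (pullback.snd w₁ (D.map b)))) (inferInstanceAs (IsFinite v))
  have := hw₂
  have : LocallyOfFinitePresentation (pullback.snd (pullback.snd w₁ (D.map b)) (D.map φ₃)) :=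
    MorphismProperty.pullback_snd _ _ hw₂
  have : CompactSpace ↑(pullback (pullback.snd w₁ (D.map b)) (D.map φ₃)) :=
    QuasiCompact.compactSpace_of_compactSpace (pullback.fst _ (D.map φ₃))
  have : QuasiSeparatedSpace ↑(pullback (pullback.snd w₁ (D.map b)) (D.map φ₃)) :=
    quasiSeparatedSpace_of_quasiSeparated (pullback.fst _ (D.map φ₃))
  obtain ⟨k₄, φ₄, p₄, hp₄, hw₄⟩ := exists_step FlatDescends.descends_flat hc hp₃
    (inferInstanceAs (LocallyOfFinitePresentation _)) (inferInstanceAs (Flat v))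
  set T₄ := pullback (pullback.snd (pullback.snd w₁ (D.map b)) (D.map φ₃)) (D.map φ₄)
  set w₄ := pullback.snd (pullback.snd (pullback.snd w₁ (D.map b)) (D.map φ₃)) (D.map φ₄)
  have : LocallyOfFinitePresentation w₄ := MorphismProperty.pullback_snd _ _ ‹_›
  have : IsFinite w₄ := MorphismProperty.pullback_snd _ _ hw₃
  have : CompactSpace T₄ := QuasiCompact.compactSpace_of_compactSpace w₄
  have : QuasiSeparatedSpace T₄ := quasiSeparatedSpace_of_quasiSeparated w₄
  obtain ⟨k₅, φ₅, p₅, hp₅, hw₅⟩ := exists_step EGA43Lim.descends_surjective hc hp₄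
    (inferInstanceAs (LocallyOfFinitePresentation w₄)) (inferInstanceAs (Surjective v))
  set T₅ := pullback w₄ (D.map φ₅)
  set w₅ := pullback.snd w₄ (D.map φ₅)
  have : LocallyOfFinitePresentation w₅ := MorphismProperty.pullback_snd _ _ ‹_›
  have : IsFinite w₅ := MorphismProperty.pullback_snd _ _ ‹_›
  have : CompactSpace T₅ := QuasiCompact.compactSpace_of_compactSpace w₅
  have : QuasiSeparatedSpace T₅ := quasiSeparatedSpace_of_quasiSeparated w₅
  obtain ⟨k₆, φ₆, p₆, hp₆, hw₆⟩ := exists_step EGA43Lim.descends_universallyInjective hc hp₅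
    (inferInstanceAs (LocallyOfFiniteType w₅)) (inferInstanceAs (UniversallyInjective v))
  set T₆ := pullback w₅ (D.map φ₆)
  set w₆ := pullback.snd w₅ (D.map φ₆)
  have : LocallyOfFinitePresentation w₆ := MorphismProperty.pullback_snd _ _ ‹_›
  have : IsFinite w₆ := MorphismProperty.pullback_snd _ _ ‹_›
  have : Flat w₆ := MorphismProperty.pullback_snd _ _
    (MorphismProperty.pullback_snd (P := @Flat) w₄ (D.map φ₅) hw₄)
  have : Surjective w₆ := MorphismProperty.pullback_snd _ _ hw₅
  have : CompactSpace T₆ := QuasiCompact.compactSpace_of_compactSpace w₆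
  have : QuasiSeparatedSpace T₆ := quasiSeparatedSpace_of_quasiSeparated w₆
  let φ : k₆ ⟶ i := φ₆ ≫ φ₅ ≫ φ₄ ≫ φ₃ ≫ a
  -- the system over the cover
  let o : Over k₆ := Over.mk (𝟙 k₆)
  let e : (LimLib.bcDiag D k₆ w₆).obj o ⟶ D.obj i := pullback.snd w₆ (D.map o.hom) ≫ D.map φ
  have : CompactSpace ↑(pullback f₀ e) := by
    have : QuasiCompact f₀ := (quasiCompact_iff_compactSpace (f := f₀)).mpr inferInstance
    exact QuasiCompact.compactSpace_of_compactSpace (pullback.snd f₀ e)
  have : QuasiSeparatedSpace ↑(pullback f₀ e) := by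
    have : QuasiSeparated f₀ := (quasiSeparated_iff_quasiSeparatedSpace f₀).mpr inferInstance
    exact quasiSeparatedSpace_of_quasiSeparated (pullback.snd f₀ e)
  have he : (LimLib.bcCone hp₆).π.app o ≫ e = v ≫ c.π.app i := by
    show pullback.lift _ _ _ ≫ pullback.snd _ _ ≫ D.map φ = _
    rw [pullback.lift_snd_assoc, Category.assoc]
    exact congrArg (v ≫ ·) (c.w φ)
  have hX₁ : IsPullback (pullback.lift q (g ≫ (LimLib.bcCone hp₆).π.app o) (by rw [Category.assoc, he]; exact hX.w))
      g (pullback.snd f₀ e) ((LimLib.bcCone hp₆).π.app o) :=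
    IsPullback.of_right (by rw [pullback.lift_fst, he]; exact hX) (pullback.lift_snd _ _ _)
      (IsPullback.of_hasPullback f₀ e)
  obtain ⟨j, ψ, J, hJ⟩ := exists_descend (LimLib.isLimitBcCone hc hp₆) (pullback.snd f₀ e) hX₁ J' hJ'
  refine ⟨j.left, j.hom ≫ φ, _, pullback.snd w₆ (D.map j.hom), MorphismProperty.pullback_snd _ _ ‹_›,
    MorphismProperty.pullback_snd _ _ ‹_›, MorphismProperty.pullback_snd _ _ ‹_›,
    MorphismProperty.pullback_snd _ _ ‹_›, MorphismProperty.pullback_snd _ _ hw₆, ?_⟩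
  have heq : (LimLib.bcDiag D k₆ w₆).map ψ ≫ e = pullback.snd w₆ (D.map j.hom) ≫ D.map (j.hom ≫ φ) := by
    show pullback.lift _ _ _ ≫ pullback.snd _ _ ≫ D.map φ = _
    rw [pullback.lift_snd_assoc, Category.assoc, ← D.map_comp]
    exact congrArg (fun x => pullback.snd w₆ (D.map j.hom) ≫ D.map (x ≫ φ))
      ((Category.comp_id ψ.left).symm.trans (Over.w ψ))
  have H : IsPullback (pullbackLeftPullbackSndIso f₀ e ((LimLib.bcDiag D k₆ w₆).map ψ) ≪≫
      pullback.congrHom rfl heq).inv (pullback.snd f₀ _) (pullback.snd _ _) (𝟙 _) :=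
    IsPullback.of_horiz_isIso ⟨by simp⟩
  exact ⟨_, hJ.comap H⟩

end Groth.Agent.SmoothStrat
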